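import Groth.Agent.RatVar.K872.SpecAlg
import Groth.Agent.VarietyB.DimSch
import Groth.Agent.Ega4B.DimFT

/-!
# Unirational varieties: reducing the dimension of the source
-/

set_option autoImplicit false

universe u

open CategoryTheory CategoryTheory.Limits AlgebraicGeometry

namespace K872.Unirat

theorem dim_eq (k : Type u) [Field k] (X : Scheme.{u}) (f : X ⟶ Spec (CommRingCat.of k)) [IsIntegral X]
    [LocallyOfFiniteType f] (V : X.Opens) (hV : IsAffineOpen V) (hV' : (V : Set X).Nonempty) :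
    ringKrullDim Γ(X, V) = topologicalKrullDim X := by
  let _ : X.Over (Spec (CommRingCat.of k)) := ⟨f⟩
  have : LocallyOfFiniteType (X ↘ Spec (CommRingCat.of k)) := ‹_›
  rw [← Groth.Agent.VarietyB.DimSch.topologicalKrullDim_affineOpen hV,
    Groth.Agent.VarietyB.DimSch.topologicalKrullDim_eq_trd k]
  exact Groth.Agent.VarietyB.DimSch.topologicalKrullDim_opens_eq_trd k V hV'

theorem injective_of_isDominant {R S : CommRingCat.{u}} [IsDomain R] (j : R ⟶ S) [IsDominant (Spec.map j)] :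
    Function.Injective j := by
  have h1 := (Spec.map j).denseRange
  have h2 : RingHom.ker j.hom ≤ nilradical R := (PrimeSpectrum.denseRange_comap_iff_ker_le_nilRadical _).1 h1
  rw [nilradical_eq_zero, Submodule.zero_eq_bot, le_bot_iff] at h2
  exact (RingHom.injective_iff_ker_eq_bot j.hom).2 h2

theorem main (k : Type u) [Field k] [Infinite k]
    (X : Scheme.{u}) (f : X ⟶ Spec (CommRingCat.of k)) [IsIntegral X] [LocallyOfFiniteType f]
    (n : ℕ) (W : (Spec (CommRingCat.of (MvPolynomial (Fin n) k))).Opens) (hW : (W : Set ↑(Spec (CommRingCat.of (MvPolynomial (Fin n) k)))).Nonempty)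
    (φ : (W : Scheme.{u}) ⟶ X) [IsDominant φ] (hφ : φ ≫ f = W.ι ≫ Spec.map (CommRingCat.ofHom (algebraMap k (MvPolynomial (Fin n) k)))) :
    ∃ (m : ℕ) (W' : (Spec (CommRingCat.of (MvPolynomial (Fin m) k))).Opens) (ψ : (W' : Scheme.{u}) ⟶ X),
      (W' : Set ↑(Spec (CommRingCat.of (MvPolynomial (Fin m) k)))).Nonempty ∧ IsDominant ψ ∧ ψ ≫ f = W'.ι ≫ Spec.map (CommRingCat.ofHom (algebraMap k (MvPolynomial (Fin m) k))) ∧
      (m : WithBot ℕ∞) = topologicalKrullDim X := by
  obtain ⟨_, ⟨V, hV, rfl⟩, hηV, -⟩ :=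
    X.isBasis_affineOpens.exists_subset_of_mem_open (Set.mem_univ (genericPoint X)) isOpen_univ
  have hV' : (V : Set X).Nonempty := ⟨_, hηV⟩
  have : Nonempty V := ⟨⟨_, hηV⟩⟩
  -- the algebra
  let kR : CommRingCat.of k ⟶ Γ(X, V) := Spec.preimage (hV.fromSpec ≫ f)
  have hkR : Spec.map kR = hV.fromSpec ≫ f := Spec.map_preimage _
  let _ : Algebra k Γ(X, V) := kR.hom.toAlgebra
  have hft : Algebra.FiniteType k Γ(X, V) := by
    have h1 : LocallyOfFiniteType (Spec.map kR) := by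
      rw [hkR]
      infer_instance
    exact (HasRingHomProperty.Spec_iff (P := @LocallyOfFiniteType)).1 h1
  obtain ⟨d, hd, hd'⟩ := Groth.Agent.Ega4B.DimFT.exists_dim k Γ(X, V)
  rw [dim_eq k X f V hV hV'] at hd'
  -- a basic open subset
  have hne : ((W.ι ''ᵁ (φ ⁻¹ᵁ V) : (Spec (CommRingCat.of (MvPolynomial (Fin n) k))).Opens) :
      Set ↑(Spec (CommRingCat.of (MvPolynomial (Fin n) k)))).Nonempty := by
    obtain ⟨_, hy, ⟨y, rfl⟩⟩ := φ.denseRange.inter_open_nonempty V V.2 hV'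
    exact ⟨W.ι y, ⟨y, hy, rfl⟩⟩
  obtain ⟨y, hy⟩ := hne
  obtain ⟨_, ⟨h, rfl⟩, hyh, hh⟩ := PrimeSpectrum.isTopologicalBasis_basic_opens.exists_subset_of_mem_open hy
    (W.ι ''ᵁ (φ ⁻¹ᵁ V)).2
  have hh0 : h ≠ 0 := by
    rintro rfl
    exact hyh (Submodule.zero_mem _)
  let S := MvPolynomial (Fin n) k
  let B := Localization.Away h
  let u : Spec (CommRingCat.of B) ⟶ Spec (CommRingCat.of S) := Spec.map (CommRingCat.ofHom (algebraMap S B))
  have hurange : Set.range u.base = (PrimeSpectrum.basicOpen h : Set (PrimeSpectrum S)) :=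
    PrimeSpectrum.localization_away_comap_range B h
  have hu : ∀ b, u b ∈ W.ι ''ᵁ (φ ⁻¹ᵁ V) := fun b => hh (by
    have : u b ∈ Set.range u.base := ⟨b, rfl⟩
    rwa [hurange] at this)
  have hu' : IsOpenImmersion u := IsOpenImmersion.of_isLocalization h
  let v : Spec (CommRingCat.of B) ⟶ (W : Scheme.{u}) := IsOpenImmersion.lift W.ι u (by
    rintro _ ⟨b, rfl⟩
    obtain ⟨y, -, hy⟩ := hu b
    exact ⟨y, hy⟩)
  have hv : v ≫ W.ι = u := IsOpenImmersion.lift_fac _ _ _
  have hvV : ∀ b, φ (v b) ∈ V := by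
    intro b
    obtain ⟨y, hy, hyb⟩ := hu b
    have h1 : W.ι (v b) = u b := by rw [← Scheme.Hom.comp_apply, hv]
    have h2 : y = v b := W.ι.isOpenEmbedding.injective (hyb.trans h1.symm)
    rw [← h2]
    exact hy
  let θ : Spec (CommRingCat.of B) ⟶ Spec Γ(X, V) := IsOpenImmersion.lift hV.fromSpec (v ≫ φ) (by
    rw [hV.range_fromSpec]
    rintro _ ⟨b, rfl⟩
    exact hvV b)
  have hθ : θ ≫ hV.fromSpec = v ≫ φ := IsOpenImmersion.lift_fac _ _ _
  have hvo : IsOpenImmersion v := by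
    have : IsOpenImmersion (v ≫ W.ι) := by rw [hv]; exact hu'
    exact IsOpenImmersion.of_comp v W.ι
  have : IsDomain S := inferInstance
  have : Nonempty W := hW.to_subtype
  have hBdom : IsDomain B := IsLocalization.isDomain_localization
    (powers_le_nonZeroDivisors_of_noZeroDivisors hh0)
  have hvd : IsDominant v := ⟨by
    have h1 : IsOpen (Set.range v.base) := v.isOpenEmbedding.isOpen_range
    exact h1.dense (Set.range_nonempty _)⟩
  have hθd : IsDominant θ := by
    have h1 : IsDominant (θ ≫ hV.fromSpec) := by rw [hθ]; infer_instance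
    exact IsDominant.of_comp_of_isOpenImmersion θ hV.fromSpec
  let j : Γ(X, V) ⟶ CommRingCat.of B := Spec.preimage θ
  have hj : Spec.map j = θ := Spec.map_preimage _
  have hjinj : Function.Injective j := by
    have : IsDominant (Spec.map j) := by rw [hj]; exact hθd
    exact injective_of_isDominant j
  have hjk : kR ≫ j = CommRingCat.ofHom (algebraMap k B) := by
    apply Spec.map_injective
    rw [Spec.map_comp, hj, hkR, reassoc_of% hθ, hφ, reassoc_of% hv]
    change Spec.map _ ≫ Spec.map _ = _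
    rw [← Spec.map_comp, ← CommRingCat.ofHom_comp, ← IsScalarTower.algebraMap_eq]
  let j' : Γ(X, V) →ₐ[k] B := { j.hom with commutes' := fun c => congr($(hjk).hom c) }
  obtain ⟨σ, P, Q, hP, hQ, hPQ, hQj⟩ := SpecAlg.core (k := k) d n hd B h j' hjinj
  let s : Spec (CommRingCat.of (MvPolynomial (Fin d) k)) ⟶ Spec (CommRingCat.of S) :=
    Spec.map (CommRingCat.ofHom σ.toRingHom)
  let P' : Spec (CommRingCat.of (MvPolynomial (Fin d) k)) := (⟨P, hP⟩ : PrimeSpectrum _)
  let Q' : Spec (CommRingCat.of B) := (⟨Q, hQ⟩ : PrimeSpectrum _)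
  have hPQ' : s P' = u Q' := PrimeSpectrum.ext hPQ.symm
  have hP'W : P' ∈ s ⁻¹ᵁ W := by
    change s P' ∈ W
    rw [hPQ', ← hv]
    exact (v Q').2
  have hψP : (s ∣_ W) ⟨P', hP'W⟩ = v Q' := by
    apply Subtype.ext
    rw [morphismRestrict_base_coe]
    refine hPQ'.trans ?_
    rw [← hv]
    rfl
  refine ⟨d, s ⁻¹ᵁ W, s ∣_ W ≫ φ, ⟨P', hP'W⟩, ⟨?_⟩, ?_, hd'.symm⟩
  · have h1 : ((s ∣_ W) ≫ φ) ⟨P', hP'W⟩ = genericPoint X := by
      rw [Scheme.Hom.comp_apply, hψP, ← Scheme.Hom.comp_apply, ← hθ, Scheme.Hom.comp_apply]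
      have h2 : θ Q' = genericPoint (Spec Γ(X, V)) := by
        rw [genericPoint_eq_bot_of_affine, ← hj]
        exact PrimeSpectrum.ext hQj
      rw [h2]
      exact genericPoint_eq_of_isOpenImmersion hV.fromSpec
    rw [DenseRange, dense_iff_closure_eq, ← Set.univ_subset_iff, ← genericPoint_closure]
    exact closure_mono (Set.singleton_subset_iff.2 ⟨_, h1⟩)
  · rw [Category.assoc, hφ, morphismRestrict_ι_assoc]
    congr 1
    rw [← Spec.map_comp, ← CommRingCat.ofHom_comp]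
    congr 2
    exact σ.comp_algebraMap

end K872.Unirat
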