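import Mathlib

/-!
# Faithful actions on integral separated schemes are generically free
-/

set_option autoImplicit false

universe u

open CategoryTheory CategoryTheory.Limits AlgebraicGeometry

namespace K872.AlmostFree

/-- Two different morphisms from a reduced scheme to a separated scheme have no common value at the
points of a nonempty open subset. -/
theorem exists_open {X Y Z : Scheme.{u}} [IsReduced X] (f g : X ⟶ Y) (s : Y ⟶ Z) [IsSeparated s]
    (h : f ≫ s = g ≫ s) (hne : f ≠ g) :
    ∃ U : X.Opens, (U : Set X).Nonempty ∧ ∀ (T : Scheme.{u}) (_ : Nonempty T) (x : T ⟶ X),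
      Set.range x.base ⊆ (U : Set X) → x ≫ f ≠ x ≫ g := by
  let X' : Over Z := Over.mk (f ≫ s)
  let Y' : Over Z := Over.mk s
  let f' : X' ⟶ Y' := Over.homMk f
  let g' : X' ⟶ Y' := Over.homMk g h.symm
  have : IsSeparated Y'.hom := ‹_›
  let e : (equalizer f' g').left ⟶ X := (equalizer.ι f' g').left
  have he : IsClosedImmersion e := isClosedImmersion_equalizer_ι_left f' g'
  have hcond : e ≫ f = e ≫ g := congr($(equalizer.condition f' g').left)
  let U : X.Opens := ⟨(Set.range e.base)ᶜ, e.isClosedEmbedding.isClosed_range.isOpen_compl⟩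
  refine ⟨U, ?_, ?_⟩
  · by_contra hU
    rw [Set.not_nonempty_iff_eq_empty] at hU
    have h1 : Set.range e.base = Set.univ := by
      exact Set.compl_empty_iff.1 hU
    have : IsDominant e := ⟨by
      rw [DenseRange, dense_iff_closure_eq]
      change closure (Set.range e.base) = _
      rw [h1, closure_univ]⟩
    exact hne (ext_of_isDominant_of_isSeparated s h e hcond)
  · rintro T ⟨t⟩ x hx hx'
    let T' : Over Z := Over.mk (x ≫ f ≫ s)
    let x' : T' ⟶ X' := Over.homMk x
    have hx'' : x' ≫ f' = x' ≫ g' := by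
      ext
      exact hx'
    have h2 : (equalizer.lift x' hx'').left ≫ e = x := by
      have := equalizer.lift_ι x' hx''
      exact congr($(this).left)
    have h3 : x.base t ∈ Set.range e.base := by
      refine ⟨(equalizer.lift x' hx'').left.base t, ?_⟩
      conv_rhs => rw [← h2]
      rfl
    exact hx ⟨t, rfl⟩ h3

theorem main (X S : Scheme.{u}) (f : X ⟶ S) [IsIntegral X] [IsSeparated f]
    (G : Type u) [Group G] [Finite G] (ρ : G →* Aut X)
    (hρ : ∀ g : G, (ρ g).hom ≫ f = f) (hfaith : Function.Injective ρ) :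
    ∃ U : X.Opens, (U : Set X).Nonempty ∧ (∀ g : G, (ρ g).hom ⁻¹ᵁ U = U) ∧
      ∀ (K : Type u) [Field K] (x : Spec (CommRingCat.of K) ⟶ X),
        Set.range x.base ⊆ (U : Set X) → ∀ g : G, x ≫ (ρ g).hom = x → g = 1 := by
  have h1 : ∀ g : G, ∃ U : X.Opens, (U : Set X).Nonempty ∧ (g ≠ 1 →
      ∀ (T : Scheme.{u}) (_ : Nonempty T) (x : T ⟶ X),
      Set.range x.base ⊆ (U : Set X) → x ≫ (ρ g).hom ≠ x ≫ 𝟙 X) := by
    intro g
    by_cases hg : g = 1
    · exact ⟨⊤, Set.univ_nonempty, fun h => absurd hg h⟩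
    · obtain ⟨U, hU, hU'⟩ := exists_open (ρ g).hom (𝟙 X) f ((hρ g).trans (Category.id_comp f).symm) (by
        intro h
        apply hg
        apply hfaith
        rw [map_one]
        exact Iso.ext h)
      exact ⟨U, hU, fun _ => hU'⟩
  choose U hU hU' using h1
  have hmul : ∀ g h : G, (ρ g).hom ≫ (ρ h).hom = (ρ (h * g)).hom := by
    intro g h
    rw [map_mul]
    rfl
  let V : X.Opens := ⟨⋂ h : G, ⋂ g : G, ((ρ h).hom ⁻¹ᵁ (U g) : Set X),
    isOpen_iInter_of_finite fun h => isOpen_iInter_of_finite fun g => ((ρ h).hom ⁻¹ᵁ (U g)).2⟩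
  refine ⟨V, ?_, ?_, ?_⟩
  · refine ⟨genericPoint X, ?_⟩
    simp only [V, TopologicalSpace.Opens.coe_mk, Set.mem_iInter]
    intro h g
    obtain ⟨y, hy⟩ := hU g
    have h2 : (ρ h).inv.base y ∈ ((ρ h).hom ⁻¹ᵁ (U g) : Set X) := by
      change (ρ h).hom.base ((ρ h).inv.base y) ∈ U g
      have : (ρ h).hom.base ((ρ h).inv.base y) = y := by
        rw [← Scheme.Hom.comp_apply, Iso.inv_hom_id]
        rfl
      rw [this]
      exact hy
    exact ((genericPoint_spec X).mem_open_set_iff ((ρ h).hom ⁻¹ᵁ (U g)).2).2 ⟨_, trivial, h2⟩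
  · intro g
    ext y
    change (ρ g).hom.base y ∈ V ↔ y ∈ V
    simp only [V, TopologicalSpace.Opens.mem_mk, Set.mem_iInter]
    constructor
    · intro hy h g'
      have h3 := hy (h * g⁻¹) g'
      change (ρ (h * g⁻¹)).hom.base ((ρ g).hom.base y) ∈ U g' at h3
      rw [← Scheme.Hom.comp_apply, hmul, inv_mul_cancel_right] at h3
      exact h3
    · intro hy h g'
      change (ρ h).hom.base ((ρ g).hom.base y) ∈ U g'
      rw [← Scheme.Hom.comp_apply, hmul]
      exact hy _ _
  · intro K _ x hx g hg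
    by_contra hne
    refine hU' g hne (Spec (CommRingCat.of K)) inferInstance x ?_ (hg.trans (Category.comp_id x).symm)
    rintro _ ⟨t, rfl⟩
    have h4 := hx ⟨t, rfl⟩
    simp only [V, TopologicalSpace.Opens.coe_mk, Set.mem_iInter] at h4
    have h5 := h4 1 g
    change (ρ 1).hom.base (x.base t) ∈ U g at h5
    rw [map_one] at h5
    exact h5

end K872.AlmostFree
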