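import Groth.Agent.RatVar.K872.Retract

/-!
# Retract rationality and the lifting property
-/

set_option autoImplicit false

universe u

open CategoryTheory CategoryTheory.Limits AlgebraicGeometry

namespace K872.LiftA

/-! ### algebra -/

theorem spread (k : Type u) [Field k] {R : Type u} [CommRing R] [IsDomain R] [Algebra k R] (n : ℕ)
    (π : MvPolynomial (Fin n) k →ₐ[k] R) (hπ : Function.Surjective π)
    (P : Ideal (MvPolynomial (Fin n) k)) [P.IsPrime] (hP : RingHom.ker π = P)
    (j : R →ₐ[k] Localization.AtPrime P)
    (hj : ∀ p, IsLocalRing.residue _ (j (π p)) = IsLocalRing.residue _ (algebraMap (MvPolynomial (Fin n) k) (Localization.AtPrime P) p)) :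
    ∃ (s : MvPolynomial (Fin n) k) (js : R →ₐ[k] Localization.Away s)
      (πs : Localization.Away s →+* Localization.Away (π s)), s ∉ P ∧
      (∀ p, πs (algebraMap _ _ p) = algebraMap _ _ (π p)) ∧
      πs.comp js.toRingHom = algebraMap R (Localization.Away (π s)) := by
  classical
  let A := Localization.AtPrime P
  obtain ⟨b, hb⟩ := IsLocalization.exist_integer_multiples_of_finite P.primeCompl (fun i : Fin n => j (π (MvPolynomial.X i)))
  choose a ha using hb
  let s : MvPolynomial (Fin n) k := b.1
  have hs : s ∉ P := b.2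
  have hs0 : s ≠ 0 := fun h => hs (h ▸ P.zero_mem)
  have hsA : IsUnit (algebraMap (MvPolynomial (Fin n) k) A s) := IsLocalization.map_units A b
  let toA : Localization.Away s →ₐ[MvPolynomial (Fin n) k] A := IsLocalization.liftAlgHom (M := Submonoid.powers s)
    (f := Algebra.ofId (MvPolynomial (Fin n) k) A) (by
      rintro ⟨_, m, rfl⟩
      change IsUnit (algebraMap (MvPolynomial (Fin n) k) A (s ^ m))
      rw [map_pow]
      exact hsA.pow m)
  have htoA : ∀ p, toA (algebraMap _ (Localization.Away s) p) = algebraMap _ A p := fun p => toA.commutes p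
  have htoAinj : Function.Injective toA := by
    intro x y hxy
    obtain ⟨⟨x', m⟩, hx⟩ := IsLocalization.surj (Submonoid.powers s) x
    obtain ⟨⟨y', m'⟩, hy⟩ := IsLocalization.surj (Submonoid.powers s) y
    have hu : IsUnit (algebraMap _ (Localization.Away s) (m.1 * m'.1)) := IsLocalization.map_units _ (m * m')
    apply hu.mul_right_cancel
    have h1 : x * algebraMap _ (Localization.Away s) (m.1 * m'.1) = algebraMap _ (Localization.Away s) (x' * m'.1) := by
      rw [map_mul, ← mul_assoc, hx, map_mul]
    have h2 : y * algebraMap _ (Localization.Away s) (m.1 * m'.1) = algebraMap _ (Localization.Away s) (y' * m.1) := by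
      rw [map_mul, mul_comm (algebraMap _ (Localization.Away s) m.1), ← mul_assoc, hy, map_mul]
    rw [h1, h2]
    congr 1
    apply IsLocalization.injective A P.primeCompl_le_nonZeroDivisors
    rw [← htoA, ← htoA, ← h1, ← h2, map_mul toA x, map_mul toA y, hxy]
  let y : Fin n → Localization.Away s := fun i => IsLocalization.mk' (Localization.Away s) (a i) (⟨s, 1, pow_one s⟩ : Submonoid.powers s)
  have hy : ∀ i, toA (y i) = j (π (MvPolynomial.X i)) := by
    intro i
    apply hsA.mul_left_cancel
    have h1 : algebraMap (MvPolynomial (Fin n) k) A s * toA (y i) = toA (algebraMap _ (Localization.Away s) s * y i) := by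
      rw [map_mul, htoA]
    have h2 : algebraMap _ (Localization.Away s) s * y i = algebraMap _ _ (a i) :=
      IsLocalization.mk'_spec' (Localization.Away s) (a i) (⟨s, 1, pow_one s⟩ : Submonoid.powers s)
    rw [h1, h2, htoA, ha i, Algebra.smul_def]
  let φ : MvPolynomial (Fin n) k →ₐ[k] Localization.Away s := MvPolynomial.aeval y
  have hφ : (toA.restrictScalars k).comp φ = j.comp π := by
    apply MvPolynomial.algHom_ext
    intro i
    simp only [AlgHom.comp_apply, φ, MvPolynomial.aeval_X]
    exact hy i
  have hφ' : ∀ p, toA (φ p) = j (π p) := fun p => DFunLike.congr_fun hφ p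
  have hker : ∀ p, π p = 0 → φ p = 0 := by
    intro p hp
    apply htoAinj
    rw [hφ', hp, map_zero, map_zero]
  let js : R →ₐ[k] Localization.Away s := AlgHom.liftOfSurjective π hπ φ (by
    intro p hp
    exact hker p hp)
  have hjs : ∀ p, js (π p) = φ p := fun p => AlgHom.liftOfSurjective_apply _ _ _ _ _
  have hπs : π s ≠ 0 := fun h => hs (hP ▸ h)
  let πs : Localization.Away s →+* Localization.Away (π s) := IsLocalization.Away.map (Localization.Away s) (Localization.Away (π s)) π.toRingHom s
  have hπs' : ∀ p, πs (algebraMap _ _ p) = algebraMap _ _ (π p) := fun p => IsLocalization.map_eq _ p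
  refine ⟨s, js, πs, hs, hπs', ?_⟩
  let ρ : R →+* IsLocalRing.ResidueField A := (IsLocalRing.residue A).comp j.toRingHom
  have hρ : ∀ p, ρ (π p) = IsLocalRing.residue A (algebraMap _ A p) := hj
  have hρinj : ∀ r, ρ r = 0 → r = 0 := by
    intro r hr
    obtain ⟨p, rfl⟩ := hπ r
    rw [hρ, IsLocalRing.residue_eq_zero_iff, IsLocalization.AtPrime.to_map_mem_maximal_iff A P] at hr
    rw [← hP] at hr
    exact hr
  let ρs : Localization.Away (π s) →+* IsLocalRing.ResidueField A := IsLocalization.Away.lift (g := ρ) (π s)
    (isUnit_iff_ne_zero.2 fun h => hπs (hρinj _ h))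
  have hρs : ∀ r, ρs (algebraMap _ _ r) = ρ r := fun r => IsLocalization.Away.lift_eq _ _ r
  have hρsinj : Function.Injective ρs := by
    rw [injective_iff_map_eq_zero]
    intro x hx
    obtain ⟨⟨r, m⟩, hr⟩ := IsLocalization.surj (Submonoid.powers (π s)) x
    have hu : IsUnit (algebraMap R (Localization.Away (π s)) m) := IsLocalization.map_units _ m
    have h1 : ρ r = 0 := by rw [← hρs, ← hr, map_mul, hx, zero_mul]
    change x * algebraMap R (Localization.Away (π s)) m = algebraMap R (Localization.Away (π s)) r at hr
    rw [hρinj r h1, map_zero] at hr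
    exact (hu.mul_left_eq_zero).1 hr
  have h5 : ρs.comp πs = (IsLocalRing.residue A).comp toA.toRingHom := by
    apply IsLocalization.ringHom_ext (Submonoid.powers s)
    refine RingHom.ext fun p => ?_
    change ρs (πs (algebraMap _ _ p)) = IsLocalRing.residue A (toA (algebraMap _ _ p))
    rw [hπs', hρs, hρ, htoA]
  refine RingHom.ext fun r => hρsinj ?_
  obtain ⟨p, rfl⟩ := hπ r
  change (ρs.comp πs) (js (π p)) = _
  rw [h5, hρs]
  change IsLocalRing.residue A (toA (js (π p))) = IsLocalRing.residue A (j (π p))
  rw [hjs, hφ']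

end K872.LiftA
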