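import Groth.Agent.RatVar.K872.LiftA

/-!
# Retract rationality and the lifting property: geometry
-/

set_option autoImplicit false

universe u

open CategoryTheory CategoryTheory.Limits AlgebraicGeometry

namespace K872.LiftB

variable (k : Type u) [Field k] (X : Scheme.{u}) (f : X ⟶ Spec (CommRingCat.of k))

/-- The lifting property. -/
def Lifting (V : X.Opens) : Prop :=
  ∀ (A : Type u) [CommRing A] [IsLocalRing A] [Algebra k A]
        (g : Spec (CommRingCat.of (IsLocalRing.ResidueField A)) ⟶ (V : Scheme.{u})),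
        g ≫ V.ι ≫ f = Spec.map (CommRingCat.ofHom ((IsLocalRing.residue A).comp (algebraMap k A))) →
        ∃ g' : Spec (CommRingCat.of A) ⟶ (V : Scheme.{u}),
          Spec.map (CommRingCat.ofHom (IsLocalRing.residue A)) ≫ g' = g ∧
          g' ≫ V.ι ≫ f = Spec.map (CommRingCat.ofHom (algebraMap k A))

/-- A morphism from a local scheme with closed point in an open subset lands in the subset. -/
theorem mem_of_local {A : Type u} [CommRing A] [IsLocalRing A] {Z : Scheme.{u}} (g : Spec (CommRingCat.of A) ⟶ Z)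
    (O : Z.Opens) (h : g (IsLocalRing.closedPoint A) ∈ O) (y : Spec (CommRingCat.of A)) : g y ∈ O := by
  have h1 : (g ⁻¹ᵁ O) = ⊤ := by
    have h2 : (IsLocalRing.closedPoint A) ∈ (g ⁻¹ᵁ O) := h
    exact (IsLocalRing.closed_point_mem_iff (U := g ⁻¹ᵁ O)).1 h2
  have h3 : y ∈ g ⁻¹ᵁ O := h1 ▸ trivial
  exact h3

theorem residue_closedPoint {A : Type u} [CommRing A] [IsLocalRing A] (z : Spec (CommRingCat.of (IsLocalRing.ResidueField A))) :
    Spec.map (CommRingCat.ofHom (IsLocalRing.residue A)) z = IsLocalRing.closedPoint A := by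
  have h1 : z = IsLocalRing.closedPoint (IsLocalRing.ResidueField A) := Subsingleton.elim _ _
  rw [h1]
  exact IsLocalRing.comap_closedPoint (IsLocalRing.residue A)

theorem toLift (U : X.Opens) (n : ℕ) (Y : (Spec (CommRingCat.of (MvPolynomial (Fin n) k))).Opens)
        (a : (U : Scheme.{u}) ⟶ (Y : Scheme.{u})) (b : (Y : Scheme.{u}) ⟶ (U : Scheme.{u}))
        (hab : a ≫ b = 𝟙 (U : Scheme.{u}))
        (ha : a ≫ Y.ι ≫ Spec.map (CommRingCat.ofHom (algebraMap k (MvPolynomial (Fin n) k))) = U.ι ≫ f)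
        (hb : b ≫ U.ι ≫ f = Y.ι ≫ Spec.map (CommRingCat.ofHom (algebraMap k (MvPolynomial (Fin n) k)))) :
    Lifting k X f U := by
  intro A _ _ _ g hg
  let e : CommRingCat.of (MvPolynomial (Fin n) k) ⟶ CommRingCat.of (IsLocalRing.ResidueField A) :=
    Spec.preimage (g ≫ a ≫ Y.ι)
  have he : Spec.map e = g ≫ a ≫ Y.ι := Spec.map_preimage _
  have hek : CommRingCat.ofHom (algebraMap k (MvPolynomial (Fin n) k)) ≫ e =
      CommRingCat.ofHom ((IsLocalRing.residue A).comp (algebraMap k A)) := by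
    apply Spec.map_injective
    rw [Spec.map_comp, he, ← hg, ← ha]
    simp only [Category.assoc]
  have hek' : ∀ c : k, e (MvPolynomial.C c) = IsLocalRing.residue A (algebraMap k A c) := fun c => congr($(hek).hom c)
  have hsurj : Function.Surjective (IsLocalRing.residue A) := IsLocalRing.residue_surjective
  choose y hy using fun i : Fin n => hsurj (e (MvPolynomial.X i))
  let E : MvPolynomial (Fin n) k →ₐ[k] A := MvPolynomial.aeval y
  have hE : CommRingCat.ofHom E.toRingHom ≫ CommRingCat.ofHom (IsLocalRing.residue A) = e := by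
    apply CommRingCat.hom_ext
    apply MvPolynomial.ringHom_ext
    · intro c
      refine Eq.trans ?_ (hek' c).symm
      change IsLocalRing.residue A (E (MvPolynomial.C c)) = _
      rw [← MvPolynomial.algebraMap_eq, E.commutes]
    · intro i
      refine Eq.trans ?_ (hy i)
      change IsLocalRing.residue A (E (MvPolynomial.X i)) = _
      simp only [E, MvPolynomial.aeval_X]
  have hE' : Spec.map (CommRingCat.ofHom (IsLocalRing.residue A)) ≫ Spec.map (CommRingCat.ofHom E.toRingHom) = g ≫ a ≫ Y.ι := by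
    rw [← Spec.map_comp, hE, he]
  let z : Spec (CommRingCat.of (IsLocalRing.ResidueField A)) := IsLocalRing.closedPoint _
  have hcl : Spec.map (CommRingCat.ofHom E.toRingHom) (IsLocalRing.closedPoint A) ∈ Y := by
    rw [← residue_closedPoint z, ← Scheme.Hom.comp_apply, hE']
    exact (a (g z)).2
  let E' : Spec (CommRingCat.of A) ⟶ (Y : Scheme.{u}) := IsOpenImmersion.lift Y.ι (Spec.map (CommRingCat.ofHom E.toRingHom)) (by
    rw [Scheme.Opens.range_ι]
    rintro _ ⟨x, rfl⟩
    exact mem_of_local _ Y hcl x)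
  have hE'' : E' ≫ Y.ι = Spec.map (CommRingCat.ofHom E.toRingHom) := IsOpenImmersion.lift_fac _ _ _
  refine ⟨E' ≫ b, ?_, ?_⟩
  · have h1 : Spec.map (CommRingCat.ofHom (IsLocalRing.residue A)) ≫ E' = g ≫ a := by
      rw [← cancel_mono Y.ι, Category.assoc, hE'', hE', Category.assoc]
    rw [reassoc_of% h1, hab, Category.comp_id]
  · rw [Category.assoc, hb, reassoc_of% hE'', ← Spec.map_comp, ← CommRingCat.ofHom_comp]
    congr 2
    exact E.comp_algebraMap

theorem ofLift [IsIntegral X] [LocallyOfFiniteType f] (V : X.Opens) (hVne : (V : Set X).Nonempty) (hV : Lifting k X f V) :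
    ∃ (U : X.Opens) (n : ℕ) (Y : (Spec (CommRingCat.of (MvPolynomial (Fin n) k))).Opens)
        (a : (U : Scheme.{u}) ⟶ (Y : Scheme.{u})) (b : (Y : Scheme.{u}) ⟶ (U : Scheme.{u})),
        (U : Set X).Nonempty ∧ a ≫ b = 𝟙 (U : Scheme.{u}) ∧
        a ≫ Y.ι ≫ Spec.map (CommRingCat.ofHom (algebraMap k (MvPolynomial (Fin n) k))) = U.ι ≫ f ∧
        b ≫ U.ι ≫ f = Y.ι ≫ Spec.map (CommRingCat.ofHom (algebraMap k (MvPolynomial (Fin n) k))) := by
  have hηV : genericPoint X ∈ (V : Set X) := ((genericPoint_spec X).mem_open_set_iff V.2).2 (by simpa using hVne)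
  obtain ⟨_, ⟨V', hV', rfl⟩, hηV', hV'V⟩ :=
    X.isBasis_affineOpens.exists_subset_of_mem_open hηV V.2
  have : Nonempty V' := ⟨⟨_, hηV'⟩⟩
  let kR : CommRingCat.of k ⟶ Γ(X, V') := Spec.preimage (hV'.fromSpec ≫ f)
  have hkR : Spec.map kR = hV'.fromSpec ≫ f := Spec.map_preimage _
  let _ : Algebra k Γ(X, V') := kR.hom.toAlgebra
  have hft : Algebra.FiniteType k Γ(X, V') := by
    have h1 : LocallyOfFiniteType (Spec.map kR) := by
      rw [hkR]
      infer_instance
    exact (HasRingHomProperty.Spec_iff (P := @LocallyOfFiniteType)).1 h1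
  obtain ⟨n, π, hπ⟩ := Algebra.FiniteType.iff_quotient_mvPolynomial''.1 hft
  let P : Ideal (MvPolynomial (Fin n) k) := RingHom.ker π
  have hPp : P.IsPrime := RingHom.ker_isPrime _
  let A := Localization.AtPrime P
  let res : MvPolynomial (Fin n) k →ₐ[k] IsLocalRing.ResidueField A :=
    IsScalarTower.toAlgHom k (MvPolynomial (Fin n) k) (IsLocalRing.ResidueField A)
  have hres : ∀ p, res p = IsLocalRing.residue A (algebraMap _ A p) := fun _ => rfl
  have hker : ∀ p, π p = 0 → res p = 0 := by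
    intro p hp
    rw [hres, IsLocalRing.residue_eq_zero_iff, IsLocalization.AtPrime.to_map_mem_maximal_iff A P]
    exact hp
  let ρ : Γ(X, V') →ₐ[k] IsLocalRing.ResidueField A := AlgHom.liftOfSurjective π hπ res hker
  have hρ : ∀ p, ρ (π p) = IsLocalRing.residue A (algebraMap _ A p) :=
    fun p => AlgHom.liftOfSurjective_apply π hπ res hker p
  let w : Spec Γ(X, V') ⟶ (V : Scheme.{u}) := IsOpenImmersion.lift V.ι hV'.fromSpec (by
    rw [Scheme.Opens.range_ι, hV'.range_fromSpec]
    exact hV'V)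
  have hw : w ≫ V.ι = hV'.fromSpec := IsOpenImmersion.lift_fac _ _ _
  let ρ' : Γ(X, V') ⟶ CommRingCat.of (IsLocalRing.ResidueField A) := CommRingCat.ofHom ρ.toRingHom
  have hρk : kR ≫ ρ' = CommRingCat.ofHom ((IsLocalRing.residue A).comp (algebraMap k A)) := by
    apply CommRingCat.hom_ext
    refine RingHom.ext fun c => ?_
    exact ρ.commutes c
  obtain ⟨g', hg', hg'k⟩ := hV A (Spec.map ρ' ≫ w) (by
    rw [Category.assoc, reassoc_of% hw, ← hkR, ← Spec.map_comp, hρk])
  let z : Spec (CommRingCat.of (IsLocalRing.ResidueField A)) := IsLocalRing.closedPoint _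
  let θ : Spec (CommRingCat.of A) ⟶ Spec Γ(X, V') := IsOpenImmersion.lift hV'.fromSpec (g' ≫ V.ι) (by
    rw [hV'.range_fromSpec]
    rintro _ ⟨x, rfl⟩
    refine mem_of_local (g' ≫ V.ι) V' ?_ x
    rw [← residue_closedPoint z, ← Scheme.Hom.comp_apply, reassoc_of% hg', hw, ← SetLike.mem_coe,
      ← hV'.range_fromSpec]
    exact ⟨_, rfl⟩)
  have hθ : θ ≫ hV'.fromSpec = g' ≫ V.ι := IsOpenImmersion.lift_fac _ _ _
  let j : Γ(X, V') ⟶ CommRingCat.of A := Spec.preimage θ
  have hj : Spec.map j = θ := Spec.map_preimage _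
  have hjk : kR ≫ j = CommRingCat.ofHom (algebraMap k A) := by
    apply Spec.map_injective
    rw [Spec.map_comp, hj, hkR, reassoc_of% hθ, hg'k]
  let j' : Γ(X, V') →ₐ[k] A := { j.hom with commutes' := fun c => congr($(hjk).hom c) }
  have hjρ : j ≫ CommRingCat.ofHom (IsLocalRing.residue A) = ρ' := by
    apply Spec.map_injective
    rw [Spec.map_comp, hj, ← cancel_mono hV'.fromSpec, Category.assoc, hθ, reassoc_of% hg', hw]
  have hjρ' : ∀ r, IsLocalRing.residue A (j' r) = ρ r := fun r => congr($(hjρ).hom r)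
  obtain ⟨s, js, πs, hs, hπs, hπjs⟩ := LiftA.spread k n π hπ P rfl j' (fun p => by rw [hjρ', hρ])
  have hπs0 : π s ≠ 0 := hs
  have : Nontrivial (Localization.Away (π s)) := by
    have : IsDomain (Localization.Away (π s)) := IsLocalization.isDomain_localization
      (powers_le_nonZeroDivisors_of_noZeroDivisors hπs0)
    infer_instance
  let ιD : Spec (CommRingCat.of (Localization.Away s)) ⟶ Spec (CommRingCat.of (MvPolynomial (Fin n) k)) :=
    Spec.map (CommRingCat.ofHom (algebraMap (MvPolynomial (Fin n) k) (Localization.Away s)))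
  have hιD : IsOpenImmersion ιD := IsOpenImmersion.of_isLocalization s
  let b₀ : Spec (CommRingCat.of (Localization.Away s)) ⟶ X := Spec.map (CommRingCat.ofHom js.toRingHom) ≫ hV'.fromSpec
  have hb₀ : b₀ ≫ f = ιD ≫ Spec.map (CommRingCat.ofHom (algebraMap k (MvPolynomial (Fin n) k))) := by
    simp only [b₀, ιD, Category.assoc]
    rw [← hkR, ← Spec.map_comp, ← Spec.map_comp]
    congr 1
    apply CommRingCat.hom_ext
    refine RingHom.ext fun c => ?_
    exact js.commutes c
  let u : Spec (CommRingCat.of (Localization.Away (π s))) ⟶ Spec Γ(X, V') :=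
    Spec.map (CommRingCat.ofHom (algebraMap Γ(X, V') (Localization.Away (π s))))
  have hu : IsOpenImmersion u := IsOpenImmersion.of_isLocalization (π s)
  let w₂ : Spec (CommRingCat.of (Localization.Away (π s))) ⟶ X := u ≫ hV'.fromSpec
  have hw₂ : IsOpenImmersion w₂ := inferInstance
  have hfac : Spec.map (CommRingCat.ofHom πs) ≫ b₀ = w₂ := by
    simp only [b₀, w₂, u]
    rw [← Category.assoc, ← Spec.map_comp, ← CommRingCat.ofHom_comp]
    congr 3
  obtain ⟨Y, a, b, h1, h2, h3⟩ := Retract.retract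
    (Spec.map (CommRingCat.ofHom (algebraMap k (MvPolynomial (Fin n) k)))) f ιD b₀ hb₀ w₂.opensRange
    (w₂.isoOpensRange.inv ≫ Spec.map (CommRingCat.ofHom πs)) (by
      rw [Category.assoc, hfac, Iso.inv_comp_eq]
      simp)
  exact ⟨w₂.opensRange, n, Y, a, b, Set.range_nonempty _, h1, h2, h3⟩

end K872.LiftB
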