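import Groth.Agent.RatVar.K872.Retract

/-!
# Rational varieties over infinite fields
-/

set_option autoImplicit false

universe u

open CategoryTheory CategoryTheory.Limits AlgebraicGeometry

namespace K872.Rational

/-- The structure morphism of `Spec k[x_i]`. -/
noncomputable abbrev str (k : Type u) [Field k] (σ : Type u) : Spec (CommRingCat.of (MvPolynomial σ k)) ⟶ Spec (CommRingCat.of k) :=
  Spec.map (CommRingCat.ofHom (algebraMap k (MvPolynomial σ k)))

theorem exists_basic {R : Type u} [CommRing R] (T : (Spec (CommRingCat.of R)).Opens)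
    (hT : (T : Set ↑(Spec (CommRingCat.of R))).Nonempty) :
    ∃ (h : R) (v : Spec (CommRingCat.of (Localization.Away h)) ⟶ (T : Scheme.{u})), h ≠ 0 ∧ IsOpenImmersion v ∧
      v ≫ T.ι = Spec.map (CommRingCat.ofHom (algebraMap R (Localization.Away h))) := by
  obtain ⟨y, hy⟩ := hT
  obtain ⟨_, ⟨h, rfl⟩, hyh, hh⟩ := PrimeSpectrum.isTopologicalBasis_basic_opens.exists_subset_of_mem_open hy T.2
  let B := Localization.Away h
  let u : Spec (CommRingCat.of B) ⟶ Spec (CommRingCat.of R) := Spec.map (CommRingCat.ofHom (algebraMap R B))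
  have hurange : Set.range u.base = (PrimeSpectrum.basicOpen h : Set (PrimeSpectrum R)) :=
    PrimeSpectrum.localization_away_comap_range B h
  have hu' : IsOpenImmersion u := IsOpenImmersion.of_isLocalization h
  let v : Spec (CommRingCat.of B) ⟶ (T : Scheme.{u}) := IsOpenImmersion.lift T.ι u (by
    rw [Scheme.Opens.range_ι]
    intro b hb
    apply hh
    have : b ∈ Set.range u.base := hb
    rwa [hurange] at this)
  have hv : v ≫ T.ι = u := IsOpenImmersion.lift_fac _ _ _
  refine ⟨h, v, ?_, ?_, hv⟩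
  · rintro rfl
    exact hyh (Submodule.zero_mem _)
  · have : IsOpenImmersion (v ≫ T.ι) := by rw [hv]; exact hu'
    exact IsOpenImmersion.of_comp v T.ι

theorem finite_of_finiteType (k : Type u) [Field k] (σ : Type u)
    (T : (Spec (CommRingCat.of (MvPolynomial σ k))).Opens)
    (hT : (T : Set ↑(Spec (CommRingCat.of (MvPolynomial σ k)))).Nonempty)
    (hft : LocallyOfFiniteType (T.ι ≫ str k σ)) : Finite σ := by
  obtain ⟨h, v, hh0, hv, hvT⟩ := exists_basic T hT
  have h1 : LocallyOfFiniteType (v ≫ T.ι ≫ str k σ) := inferInstance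
  rw [reassoc_of% hvT, ← Spec.map_comp, ← CommRingCat.ofHom_comp, ← IsScalarTower.algebraMap_eq] at h1
  have h2 : (algebraMap k (Localization.Away h)).FiniteType := (HasRingHomProperty.Spec_iff (P := @LocallyOfFiniteType)).1 h1
  have h3 : Algebra.FiniteType k (Localization.Away h) := RingHom.finiteType_algebraMap.1 h2
  have : IsDomain (Localization.Away h) := IsLocalization.isDomain_localization
    (powers_le_nonZeroDivisors_of_noZeroDivisors hh0)
  have h4 : Algebra.trdeg k (Localization.Away h) < Cardinal.aleph0 := trdeg_lt_aleph0_of_finiteType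
  have hinj : Function.Injective (IsScalarTower.toAlgHom k (MvPolynomial σ k) (Localization.Away h)) :=
    IsLocalization.injective (Localization.Away h) (powers_le_nonZeroDivisors_of_noZeroDivisors hh0)
  have h5 := trdeg_le_of_injective (IsScalarTower.toAlgHom k (MvPolynomial σ k) (Localization.Away h)) hinj
  rw [MvPolynomial.trdeg_of_isDomain, Cardinal.lift_id] at h5
  exact Cardinal.lt_aleph0_iff_finite.1 (h5.trans_lt h4)

theorem exists_point (k : Type u) [Field k] [Infinite k] (σ : Type)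
    (T : (Spec (CommRingCat.of (MvPolynomial σ k))).Opens)
    (hT : (T : Set ↑(Spec (CommRingCat.of (MvPolynomial σ k)))).Nonempty) :
    ∃ t : Spec (CommRingCat.of k) ⟶ (T : Scheme.{u}), t ≫ T.ι ≫ Spec.map (CommRingCat.ofHom (algebraMap k (MvPolynomial σ k))) = 𝟙 _ := by
  obtain ⟨h, v, hh0, hv, hvT⟩ := exists_basic T hT
  obtain ⟨c, hc⟩ : ∃ c : σ → k, MvPolynomial.eval c h ≠ 0 := by
    by_contra hcon
    push Not at hcon
    exact hh0 (MvPolynomial.funext fun c => by rw [hcon c, map_zero])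
  let ev : Localization.Away h →+* k := IsLocalization.Away.lift (g := MvPolynomial.eval c) h (isUnit_iff_ne_zero.2 hc)
  have hev : ev.comp (algebraMap _ (Localization.Away h)) = MvPolynomial.eval c := IsLocalization.Away.lift_comp h _
  refine ⟨Spec.map (CommRingCat.ofHom ev) ≫ v, ?_⟩
  rw [Category.assoc, reassoc_of% hvT, ← Spec.map_comp, ← Spec.map_comp, ← CommRingCat.ofHom_comp, ← CommRingCat.ofHom_comp,
    ← Spec.map_id]
  congr 1
  ext a
  change ev (algebraMap _ (Localization.Away h) (algebraMap k (MvPolynomial σ k) a)) = a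
  rw [← RingHom.comp_apply, hev, MvPolynomial.algebraMap_eq, MvPolynomial.eval_C]

/-- A rational scheme of finite type has a nonempty open subscheme which is an open subscheme of some `Spec k[x_1, …, x_N]`. -/
theorem exists_chart (k : Type u) [Field k] {Z : Scheme.{u}} (s : Z ⟶ Spec (CommRingCat.of k)) [Nonempty Z]
    [LocallyOfFiniteType s] [Scheme.IsRationalOver s] :
    ∃ (O : Z.Opens) (N : ℕ) (ι : (O : Scheme.{u}) ⟶ Spec (CommRingCat.of (MvPolynomial (Fin N) k))),
      (O : Set Z).Nonempty ∧ IsOpenImmersion ι ∧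
        ι ≫ Spec.map (CommRingCat.ofHom (algebraMap k (MvPolynomial (Fin N) k))) = O.ι ≫ s := by
  obtain ⟨σ, p, hp⟩ := Scheme.IsRationalOver.exists_birationalOver_affineSpace s
  have hO : (p.source : Set Z).Nonempty := p.dense_source.nonempty
  let ι' : (p.source : Scheme.{u}) ⟶ Spec (CommRingCat.of (MvPolynomial σ k)) :=
    p.iso.hom ≫ p.target.ι ≫ (AffineSpace.SpecIso σ (CommRingCat.of k)).hom
  have hι' : ι' ≫ str k σ = p.source.ι ≫ s := by
    rw [← hp]
    simp only [ι', Category.assoc]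
    congr 2
    rw [← Iso.eq_inv_comp]
    exact (AffineSpace.SpecIso_inv_over (CommRingCat.of k)).symm
  have hne : Nonempty p.source := hO.to_subtype
  have hfin : Finite σ := by
    refine finite_of_finiteType k σ ι'.opensRange (Set.range_nonempty _) ?_
    have h1 : ι'.opensRange.ι = ι'.isoOpensRange.inv ≫ ι' := by
      rw [Iso.eq_inv_comp]
      simp
    rw [h1, Category.assoc, hι']
    infer_instance
  let e : MvPolynomial (Fin (Nat.card σ)) k ≃ₐ[k] MvPolynomial σ k := MvPolynomial.renameEquiv k (Finite.equivFin σ).symm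
  let E : Spec (CommRingCat.of (MvPolynomial σ k)) ≅ Spec (CommRingCat.of (MvPolynomial (Fin (Nat.card σ)) k)) :=
    Scheme.Spec.mapIso (e.toRingEquiv.toCommRingCatIso).op
  refine ⟨p.source, Nat.card σ, ι' ≫ E.hom, hO, inferInstance, ?_⟩
  rw [← hι', Category.assoc]
  congr 1
  change Spec.map _ ≫ Spec.map _ = Spec.map _
  rw [← Spec.map_comp]
  congr 1
  apply CommRingCat.hom_ext
  refine RingHom.ext fun a => ?_
  exact e.commutes a

theorem main (k : Type u) [Field k] [Infinite k]
    (X Y : Scheme.{u}) (f : X ⟶ Spec (CommRingCat.of k)) (g : Y ⟶ Spec (CommRingCat.of k))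
    [LocallyOfFiniteType f] [LocallyOfFiniteType g] [Nonempty ↥(pullback f g)]
    [Scheme.IsRationalOver (pullback.fst f g ≫ f)] :
    ∃ (U : X.Opens) (n : ℕ) (Y' : (Spec (CommRingCat.of (MvPolynomial (Fin n) k))).Opens)
        (a : (U : Scheme.{u}) ⟶ (Y' : Scheme.{u})) (b : (Y' : Scheme.{u}) ⟶ (U : Scheme.{u})),
        (U : Set X).Nonempty ∧ a ≫ b = 𝟙 (U : Scheme.{u}) ∧
        a ≫ Y'.ι ≫ Spec.map (CommRingCat.ofHom (algebraMap k (MvPolynomial (Fin n) k))) = U.ι ≫ f ∧
        b ≫ U.ι ≫ f = Y'.ι ≫ Spec.map (CommRingCat.ofHom (algebraMap k (MvPolynomial (Fin n) k))) := by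
  obtain ⟨O, N, ι, hO, hι, hιk⟩ := exists_chart k (pullback.fst f g ≫ f)
  have hne : Nonempty O := hO.to_subtype
  obtain ⟨t, ht⟩ := exists_point k (Fin N) ι.opensRange (Set.range_nonempty _)
  let z₀ : Spec (CommRingCat.of k) ⟶ (O : Scheme.{u}) := t ≫ ι.isoOpensRange.inv
  have hz₀ : z₀ ≫ O.ι ≫ pullback.fst f g ≫ f = 𝟙 _ := by
    rw [← hιk, ← ht]
    simp [z₀]
  let y₀ : Spec (CommRingCat.of k) ⟶ Y := z₀ ≫ O.ι ≫ pullback.snd f g
  have hy₀ : y₀ ≫ g = 𝟙 _ := by
    rw [← hz₀]
    simp only [y₀, Category.assoc, pullback.condition]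
  let i : X ⟶ pullback f g := pullback.lift (𝟙 X) (f ≫ y₀) (by rw [Category.assoc, hy₀, Category.comp_id, Category.id_comp])
  have hi : i ≫ pullback.fst f g = 𝟙 X := pullback.lift_fst _ _ _
  let x₀ : Spec (CommRingCat.of k) ⟶ X := z₀ ≫ O.ι ≫ pullback.fst f g
  have hx₀f : x₀ ≫ f = 𝟙 _ := by
    rw [← hz₀]
    simp only [x₀, Category.assoc]
  have hx₀ : x₀ ≫ i = z₀ ≫ O.ι := by
    apply pullback.hom_ext
    · rw [Category.assoc, hi, Category.comp_id, Category.assoc]
    · rw [Category.assoc, pullback.lift_snd, reassoc_of% hx₀f, Category.assoc]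
  obtain ⟨Y', a, b, h1, h2, h3⟩ := Retract.retract
    (Spec.map (CommRingCat.ofHom (algebraMap k (MvPolynomial (Fin N) k)))) f ι (O.ι ≫ pullback.fst f g)
    (by rw [Category.assoc, hιk]) (i ⁻¹ᵁ O) (i ∣_ O) (by rw [morphismRestrict_ι_assoc, hi, Category.comp_id])
  refine ⟨i ⁻¹ᵁ O, N, Y', a, b, ⟨x₀ (IsLocalRing.closedPoint k), ?_⟩, h1, h2, h3⟩
  change i (x₀ (IsLocalRing.closedPoint k)) ∈ O
  rw [← Scheme.Hom.comp_apply, hx₀]
  exact (z₀ _).2

end K872.Rational
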