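import Mathlib

/-!
# Retracts of open subschemes
-/

set_option autoImplicit false

universe u

open CategoryTheory CategoryTheory.Limits AlgebraicGeometry

namespace K872.Retract

theorem retract {A S X D : Scheme.{u}} (sA : A ⟶ S) (f : X ⟶ S) (ιD : D ⟶ A) [IsOpenImmersion ιD]
    (b₀ : D ⟶ X) (hb₀ : b₀ ≫ f = ιD ≫ sA) (U : X.Opens) (a₀ : (U : Scheme.{u}) ⟶ D)
    (h : a₀ ≫ b₀ = U.ι) :
    ∃ (Y : A.Opens) (a : (U : Scheme.{u}) ⟶ (Y : Scheme.{u})) (b : (Y : Scheme.{u}) ⟶ (U : Scheme.{u})),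
      a ≫ b = 𝟙 (U : Scheme.{u}) ∧ a ≫ Y.ι ≫ sA = U.ι ≫ f ∧ b ≫ U.ι ≫ f = Y.ι ≫ sA := by
  let e := ιD.isoImage (b₀ ⁻¹ᵁ U)
  have he : e.hom ≫ (ιD ''ᵁ (b₀ ⁻¹ᵁ U)).ι = (b₀ ⁻¹ᵁ U).ι ≫ ιD := Scheme.Hom.isoImage_hom_ι _ _
  have he' : (ιD ''ᵁ (b₀ ⁻¹ᵁ U)).ι = e.inv ≫ (b₀ ⁻¹ᵁ U).ι ≫ ιD := by rw [← he, Iso.inv_hom_id_assoc]
  let a' : (U : Scheme.{u}) ⟶ ((b₀ ⁻¹ᵁ U : D.Opens) : Scheme.{u}) := IsOpenImmersion.lift (b₀ ⁻¹ᵁ U).ι a₀ (by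
    rw [Scheme.Opens.range_ι]
    rintro _ ⟨x, rfl⟩
    change b₀ (a₀ x) ∈ U
    rw [← Scheme.Hom.comp_apply, h]
    exact x.2)
  have ha' : a' ≫ (b₀ ⁻¹ᵁ U).ι = a₀ := IsOpenImmersion.lift_fac _ _ _
  refine ⟨ιD ''ᵁ (b₀ ⁻¹ᵁ U), a' ≫ e.hom, e.inv ≫ (b₀ ∣_ U), ?_, ?_, ?_⟩
  · rw [← cancel_mono U.ι, Category.id_comp]
    simp only [Category.assoc, Iso.hom_inv_id_assoc, morphismRestrict_ι]
    rw [reassoc_of% ha', h]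
  · simp only [Category.assoc]
    rw [reassoc_of% he, reassoc_of% ha', ← hb₀, reassoc_of% h]
  · simp only [Category.assoc]
    rw [morphismRestrict_ι_assoc, hb₀, he']
    simp only [Category.assoc]

end K872.Retract
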