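import Mathlib

/-!
# Specialising coordinates: the algebra
-/

set_option autoImplicit false

universe u

open MvPolynomial Cardinal

namespace K872.SpecAlg

/-- A constructible subset of an irreducible space containing the generic point contains an open set. -/
theorem exists_open_of_isConstructible {T : Type*} [TopologicalSpace T] {η : T}
    (hη : ∀ U : Set T, IsOpen U → U.Nonempty → η ∈ U) {E : Set T}
    (hE : Topology.IsConstructible E) :
    (η ∈ E → ∃ O : Set T, IsOpen O ∧ η ∈ O ∧ O ⊆ E) ∧
      (η ∉ E → ∃ O : Set T, IsOpen O ∧ η ∈ O ∧ O ⊆ Eᶜ) := by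
  induction hE using Topology.IsConstructible.empty_union_induction with
  | open_retrocompact U hU _ =>
    refine ⟨fun h => ⟨U, hU, h, subset_rfl⟩, fun h => ⟨Set.univ, isOpen_univ, trivial, ?_⟩⟩
    rcases U.eq_empty_or_nonempty with h' | h'
    · rw [h', Set.compl_empty]
    · exact (h (hη U hU h')).elim
  | union s hs t ht h1 h2 =>
    refine ⟨fun h => ?_, fun h => ?_⟩
    · rcases h with h | h
      · obtain ⟨O, hO, hηO, hOs⟩ := h1.1 h
        exact ⟨O, hO, hηO, hOs.trans Set.subset_union_left⟩
      · obtain ⟨O, hO, hηO, hOs⟩ := h2.1 h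
        exact ⟨O, hO, hηO, hOs.trans Set.subset_union_right⟩
    · rw [Set.mem_union, not_or] at h
      obtain ⟨O, hO, hηO, hOs⟩ := h1.2 h.1
      obtain ⟨O', hO', hηO', hOs'⟩ := h2.2 h.2
      refine ⟨O ∩ O', hO.inter hO', ⟨hηO, hηO'⟩, ?_⟩
      rw [Set.compl_union]
      exact Set.inter_subset_inter hOs hOs'
  | compl s hs h =>
    rw [compl_compl]
    exact ⟨fun h' => h.2 h', fun h' => h.1 (not_not.1 h')⟩

/-- The image of `Spec B → Spec A` for an injective map of finite type from a Noetherian domain
contains a nonempty basic open set. -/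
theorem exists_basicOpen {A B : Type u} [CommRing A] [CommRing B] [IsDomain A] [IsNoetherianRing A]
    (f : A →+* B) (hf : f.FiniteType) (hinj : Function.Injective f) (hB : IsDomain B) :
    ∃ F : A, F ≠ 0 ∧ ∀ p : Ideal A, p.IsPrime → F ∉ p → ∃ q : Ideal B, q.IsPrime ∧ q.comap f = p := by
  have hfp : f.FinitePresentation := by
    algebraize [f]
    exact (Algebra.FinitePresentation.of_finiteType (R := A) (A := B)).1 inferInstance
  have hc := PrimeSpectrum.isConstructible_range_comap hfp
  let η : PrimeSpectrum A := ⟨⊥, Ideal.isPrime_bot⟩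
  have hη : ∀ U : Set (PrimeSpectrum A), IsOpen U → U.Nonempty → η ∈ U := by
    rintro U hU ⟨x, hx⟩
    have h1 : η ⤳ x := by
      rw [← PrimeSpectrum.le_iff_specializes]
      exact bot_le
    exact h1.mem_open hU hx
  obtain ⟨O, hO, hηO, hOE⟩ := (exists_open_of_isConstructible hη hc).1 ⟨⟨⊥, Ideal.isPrime_bot⟩, by
    ext x
    simp [η, Ideal.mem_comap, map_eq_zero_iff f hinj]⟩
  obtain ⟨_, ⟨F, rfl⟩, hF, hFO⟩ :=
    PrimeSpectrum.isTopologicalBasis_basic_opens.exists_subset_of_mem_open hηO hO
  refine ⟨F, ?_, ?_⟩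
  · intro h
    rw [h] at hF
    exact hF (Submodule.zero_mem _)
  · intro p hp hFp
    obtain ⟨q, hq⟩ := hOE (hFO (show (⟨p, hp⟩ : PrimeSpectrum A) ∈ PrimeSpectrum.basicOpen F from hFp))
    exact ⟨q.asIdeal, q.2, congr_arg PrimeSpectrum.asIdeal hq⟩

variable {k : Type u} [Field k] [Infinite k]

/-- Nonvanishing at a point with coordinates in an infinite subfield. -/
theorem exists_eval_ne_zero {R : Type u} [CommRing R] [IsDomain R] [Algebra k R] {J : Type*}
    (F : MvPolynomial J R) (hF : F ≠ 0) :
    ∃ c : J → k, MvPolynomial.eval (fun j => algebraMap k R (c j)) F ≠ 0 := by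
  by_contra hcon
  push Not at hcon
  apply hF
  refine MvPolynomial.funext_set (fun _ : J => Set.range (algebraMap k R))
    (fun _ => Set.infinite_range_of_injective (algebraMap k R).injective) ?_
  intro x hx
  rw [map_zero]
  have h1 : ∀ j, ∃ c, algebraMap k R c = x j := fun j => hx j (Set.mem_univ j)
  choose c hc using h1
  have h2 : x = fun j => algebraMap k R (c j) := funext fun j => (hc j).symm
  rw [h2]
  exact hcon c

theorem isAlgebraic_of_mul {A B : Type*} [CommRing A] [CommRing B] [Algebra A B] (a₁ a₂ : A) (b : B)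
    (ha : a₁ ≠ 0) (h : algebraMap A B a₁ * b = algebraMap A B a₂) : IsAlgebraic A b := by
  refine ⟨Polynomial.C a₁ * Polynomial.X - Polynomial.C a₂, ?_, ?_⟩
  · intro h1
    have h2 := congr_arg (fun q => Polynomial.coeff q 1) h1
    simp only [Polynomial.coeff_sub, Polynomial.coeff_C_mul, Polynomial.coeff_X_one, mul_one,
      Polynomial.coeff_C_of_ne_zero one_ne_zero, sub_zero, Polynomial.coeff_zero] at h2
    exact ha h2
  · simp only [map_sub, map_mul, Polynomial.aeval_C, Polynomial.aeval_X]
    rw [h, sub_self]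

theorem finiteType_away {S : Type*} [CommRing S] (h : S) (B : Type*) [CommRing B] [Algebra S B]
    [IsLocalization.Away h B] : Algebra.FiniteType S B :=
  IsLocalization.finiteType_of_monoid_fg (Submonoid.powers h) B

theorem core {R : Type u} [CommRing R] [IsDomain R] [Algebra k R] [Algebra.FiniteType k R] (d n : ℕ)
    (hd : Algebra.trdeg k R = d) (B : Type u) [CommRing B] [IsDomain B] [Algebra k B]
    [Algebra (MvPolynomial (Fin n) k) B] [IsScalarTower k (MvPolynomial (Fin n) k) B]
    (h : MvPolynomial (Fin n) k) [IsLocalization.Away h B]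
    (j : R →ₐ[k] B) (hj : Function.Injective j) :
    ∃ (σ : MvPolynomial (Fin n) k →ₐ[k] MvPolynomial (Fin d) k) (P : Ideal (MvPolynomial (Fin d) k))
      (Q : Ideal B), P.IsPrime ∧ Q.IsPrime ∧ Q.comap (algebraMap (MvPolynomial (Fin n) k) B) = P.comap σ ∧
        Q.comap j = ⊥ := by
  classical
  let _ : Algebra R B := j.toRingHom.toAlgebra
  have : IsScalarTower k R B := IsScalarTower.of_algebraMap_eq fun c => (j.commutes c).symm
  have : FaithfulSMul R B := (faithfulSMul_iff_algebraMap_injective R B).2 hj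
  have h0 : h ≠ 0 := by
    rintro rfl
    have h1 : IsUnit (algebraMap (MvPolynomial (Fin n) k) B 0) := IsLocalization.Away.algebraMap_isUnit 0
    rw [map_zero] at h1
    exact not_isUnit_zero h1
  have hSB : Function.Injective (algebraMap (MvPolynomial (Fin n) k) B) :=
    IsLocalization.injective B (powers_le_nonZeroDivisors_of_noZeroDivisors h0)
  have : FaithfulSMul (MvPolynomial (Fin n) k) B := (faithfulSMul_iff_algebraMap_injective _ B).2 hSB
  let x : Fin n → B := fun i => algebraMap (MvPolynomial (Fin n) k) B (X i)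
  have hC : ∀ a : k, algebraMap (MvPolynomial (Fin n) k) B (C a) = algebraMap R B (algebraMap k R a) := by
    intro a
    rw [← IsScalarTower.algebraMap_apply k R B, IsScalarTower.algebraMap_apply k (MvPolynomial (Fin n) k) B]
    rfl
  have hs : ∀ p : MvPolynomial (Fin n) k, algebraMap _ B p ∈ Algebra.adjoin R (Set.range x) := by
    intro p
    induction p using MvPolynomial.induction_on with
    | C a =>
      rw [hC]
      exact Subalgebra.algebraMap_mem _ _
    | add p q hp hq => rw [map_add]; exact add_mem hp hq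
    | mul_X p i hp => rw [map_mul]; exact mul_mem hp (Algebra.subset_adjoin ⟨i, rfl⟩)
  have halg : Algebra.IsAlgebraic (Algebra.adjoin R (Set.range x)) B := by
    constructor
    intro b
    obtain ⟨⟨p, m⟩, hb⟩ := IsLocalization.surj (Submonoid.powers h) b
    have hm0 : algebraMap (MvPolynomial (Fin n) k) B m ≠ 0 :=
      (IsLocalization.map_units B m).ne_zero
    let a₁ : Algebra.adjoin R (Set.range x) := ⟨algebraMap (MvPolynomial (Fin n) k) B m, hs m.1⟩
    let a₂ : Algebra.adjoin R (Set.range x) := ⟨algebraMap (MvPolynomial (Fin n) k) B p, hs p⟩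
    have ha₁ : a₁ ≠ 0 := fun h1 => hm0 (congr_arg Subtype.val h1)
    have hb' : algebraMap (Algebra.adjoin R (Set.range x)) B a₁ * b = algebraMap (Algebra.adjoin R (Set.range x)) B a₂ := by
      rw [mul_comm]
      exact hb
    exact isAlgebraic_of_mul a₁ a₂ b ha₁ hb'
  obtain ⟨t, hts, ht⟩ := exists_isTranscendenceBasis_subset (R := R) (Set.range x)
  have hxinj : Function.Injective x := fun a b hab => MvPolynomial.X_injective (hSB hab)
  let J : Set (Fin n) := {i | x i ∈ t}
  let e : J ≃ t := Equiv.ofBijective (fun i => ⟨x i.1, i.2⟩)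
    ⟨fun a b hab => Subtype.ext (hxinj (congr_arg Subtype.val hab)), by
      rintro ⟨b, hb⟩
      obtain ⟨i, rfl⟩ := hts hb
      exact ⟨⟨i, hb⟩, rfl⟩⟩
  have he : (Subtype.val : t → B) ∘ e = fun i : J => x i.1 := by
    funext i
    rfl
  have hJ : IsTranscendenceBasis R (fun i : J => x i.1) := (isTranscendenceBasis_equiv' e he).2 ht
  -- the degrees
  have hftB : Algebra.FiniteType (MvPolynomial (Fin n) k) B := finiteType_away h B
  have hftkB : Algebra.FiniteType k B := Algebra.FiniteType.trans inferInstance hftB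
  have hcard : d + Fintype.card J = n := by
    have h1 := trdeg_add_eq k R (A := B)
    have h2 := trdeg_add_eq k (MvPolynomial (Fin n) k) (A := B)
    have h3 : Algebra.IsAlgebraic (MvPolynomial (Fin n) k) B :=
      IsLocalization.isAlgebraic B (Submonoid.powers h)
    have h4 : Algebra.trdeg (MvPolynomial (Fin n) k) B = 0 := _root_.trdeg_eq_zero
    rw [h4, add_zero, MvPolynomial.trdeg_of_isDomain] at h2
    have h5 := hJ.lift_cardinalMk_eq_trdeg
    rw [Cardinal.lift_uzero, Cardinal.mk_fintype, Cardinal.lift_natCast] at h5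
    rw [hd, ← h5, ← h2, Cardinal.mk_fintype, Cardinal.lift_natCast, Fintype.card_fin] at h1
    exact_mod_cast h1
  have hcard' : Fintype.card (Fin d) = Fintype.card {i : Fin n // i ∉ J} := by
    rw [Fintype.card_subtype_compl, Fintype.card_fin, Fintype.card_fin]
    have h6 : Fintype.card {x // x ∈ J} = Fintype.card J := rfl
    omega
  let e' : Fin d ≃ {i : Fin n // i ∉ J} := Fintype.equivOfCardEq hcard'
  -- the map `R[T_J] → B`
  let f : MvPolynomial J R →ₐ[R] B := aeval (fun i : J => x i)
  have hf : Function.Injective f := hJ.1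
  have hfft : f.toRingHom.FiniteType := by
    have h1 : (f.toRingHom.comp (algebraMap k (MvPolynomial J R))).FiniteType := by
      have h2 : f.toRingHom.comp (algebraMap k (MvPolynomial J R)) = algebraMap k B := by
        ext a
        rw [IsScalarTower.algebraMap_eq k R (MvPolynomial J R)]
        simp only [RingHom.comp_apply]
        change f (algebraMap R _ (algebraMap k R a)) = _
        rw [f.commutes, ← IsScalarTower.algebraMap_apply]
      rw [h2]
      exact (RingHom.finiteType_algebraMap).2 hftkB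
    exact RingHom.FiniteType.of_comp_finiteType h1
  have : IsNoetherianRing R := Algebra.FiniteType.isNoetherianRing k R
  obtain ⟨F, hF, hF'⟩ := exists_basicOpen f.toRingHom hfft hf inferInstance
  obtain ⟨c, hc⟩ := exists_eval_ne_zero (k := k) F hF
  obtain ⟨Q, hQ, hQc⟩ := hF' (RingHom.ker (MvPolynomial.eval (fun i : J => algebraMap k R (c i))))
    (RingHom.ker_isPrime _) hc
  let PS : Ideal (MvPolynomial (Fin n) k) := Q.comap (algebraMap (MvPolynomial (Fin n) k) B)
  have hPS : PS.IsPrime := Ideal.comap_isPrime _ _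
  have hmem : ∀ p : MvPolynomial J R, f p ∈ Q ↔ MvPolynomial.eval (fun i : J => algebraMap k R (c i)) p = 0 := by
    intro p
    rw [← RingHom.mem_ker, ← hQc]
    rfl
  have hJmem : ∀ i : J, X i.1 - C (c i) ∈ PS := by
    intro i
    change algebraMap _ B _ ∈ Q
    have h1 : algebraMap (MvPolynomial (Fin n) k) B (X i.1 - C (c i)) = f (X i - C (algebraMap k R (c i))) := by
      rw [map_sub, map_sub, hC]
      simp only [f, aeval_X, ← MvPolynomial.algebraMap_eq, AlgHom.commutes]
      rfl
    rw [h1, hmem]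
    simp
  let σ : MvPolynomial (Fin n) k →ₐ[k] MvPolynomial (Fin d) k :=
    aeval (fun i => if hi : i ∈ J then C (c ⟨i, hi⟩) else X (e'.symm ⟨i, hi⟩))
  let τ : MvPolynomial (Fin d) k →ₐ[k] MvPolynomial (Fin n) k := rename (fun i => (e' i).1)
  have hτσ : (Ideal.Quotient.mkₐ k PS).comp (τ.comp σ) = Ideal.Quotient.mkₐ k PS := by
    apply MvPolynomial.algHom_ext
    intro i
    by_cases hi : i ∈ J
    · have h1 : σ (X i) = C (c ⟨i, hi⟩) := by simp [σ, hi]
      simp only [AlgHom.comp_apply, h1]
      have h2 : τ (C (c ⟨i, hi⟩)) = C (c ⟨i, hi⟩) := by simp [τ]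
      rw [h2, Ideal.Quotient.mkₐ_eq_mk, eq_comm, Ideal.Quotient.eq]
      exact hJmem ⟨i, hi⟩
    · have h1 : σ (X i) = X (e'.symm ⟨i, hi⟩) := by simp [σ, hi]
      simp only [AlgHom.comp_apply, h1]
      have h2 : τ (X (e'.symm ⟨i, hi⟩)) = X i := by simp [τ]
      rw [h2]
  have hP : (PS.comap τ).IsPrime := Ideal.comap_isPrime τ PS
  have hmain : Q.comap (algebraMap (MvPolynomial (Fin n) k) B) = (PS.comap τ).comap σ := by
    ext p
    change p ∈ PS ↔ τ (σ p) ∈ PS
    have h1 : Ideal.Quotient.mk PS (τ (σ p)) = Ideal.Quotient.mk PS p := DFunLike.congr_fun hτσ p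
    rw [← Ideal.Quotient.eq_zero_iff_mem, ← Ideal.Quotient.eq_zero_iff_mem, h1]
  have hbot : Q.comap j = ⊥ := by
    rw [eq_bot_iff]
    intro r hr
    have h1 : f (C r) ∈ Q := by
      have h2 : f (C r) = j r := by
        rw [← MvPolynomial.algebraMap_eq, f.commutes]
        rfl
      rw [h2]
      exact hr
    rw [hmem, eval_C] at h1
    exact h1
  exact ⟨σ, PS.comap τ, Q, hP, hQ, hmain, hbot⟩

end K872.SpecAlg
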